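import Groth.Agent.ShriekPush.Square
import Groth.Agent.AcycFin.SkyTorsion
import Groth.Agent.Shriek.LqfExact

/-!
# Proper support commutes with proper push forward, degreewise
-/

set_option autoImplicit false
set_option linter.style.haveILetI false
set_option linter.unusedSectionVars false
set_option backward.isDefEq.respectTransparency false
set_option backward.isDefEq.respectTransparency.types false

universe u

open CategoryTheory CategoryTheory.Limits AlgebraicGeometry Opposite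

noncomputable section

namespace Groth.Agent.ShriekPush

attribute [local instance] EtFound.pull_preservesFiniteLimits

section Shift

variable {A B : Scheme.{u}} (f : A ⟶ B) {S : ShortComplex (EtCoh.Ab A)} (hS : S.ShortExact)
  (hK : ∀ j : ℕ, IsZero ((EtCoh.Rpush f (j + 1)).obj S.X₂))

include hS hK in
theorem nonempty_shift (q : ℕ) :
    Nonempty ((EtCoh.Rpush f (q + 2)).obj S.X₁ ≅ (EtCoh.Rpush f (q + 1)).obj S.X₃) := by
  haveI : (EtCoh.push f).IsRightAdjoint := (EtCoh.pullPushAdj f).isRightAdjoint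
  let T := SESResLib.derivedLES (EtCoh.push f)
  haveI : Mono (T.δ S hS (q + 1) (q + 2) rfl) :=
    (T.exact₃ S hS (q + 1) (q + 2) rfl).mono_g ((hK q).eq_of_src _ _)
  haveI : Epi (T.δ S hS (q + 1) (q + 2) rfl) :=
    (T.exact₁ S hS (q + 1) (q + 2) rfl).epi_f ((hK (q + 1)).eq_of_tgt _ _)
  haveI : IsIso (T.δ S hS (q + 1) (q + 2) rfl) := isIso_of_mono_of_epi _
  exact ⟨(asIso (T.δ S hS (q + 1) (q + 2) rfl)).symm⟩

include hS hK in
theorem nonempty_one :
    Nonempty ((EtCoh.Rpush f 1).obj S.X₁ ≅ cokernel ((EtCoh.push f).map S.g)) := by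
  haveI : (EtCoh.push f).IsRightAdjoint := (EtCoh.pullPushAdj f).isRightAdjoint
  let T := SESResLib.derivedLES (EtCoh.push f)
  haveI : Epi (T.δ S hS 0 1 rfl) := (T.exact₁ S hS 0 1 rfl).epi_f ((hK 0).eq_of_tgt _ _)
  haveI : Epi (ShortComplex.mk _ _ (T.comp_δ S hS 0 1 rfl)).g := ‹Epi (T.δ S hS 0 1 rfl)›
  let hc := (T.exact₃ S hS 0 1 rfl).gIsCokernel
  let e := (EtCoh.push f).rightDerivedZeroIsoSelf
  exact ⟨hc.coconePointUniqueUpToIso (colimit.isColimit _) ≪≫
    cokernel.mapIso _ _ (e.app S.X₂) (e.app S.X₃) (e.hom.naturality S.g)⟩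

end Shift

variable {X Y X' Y' : Scheme.{u}} (f : X ⟶ Y) (g : Y' ⟶ Y) (f' : X' ⟶ Y') (g' : X' ⟶ X) (w : g' ≫ f = f' ≫ g)
  [IsProper f] [IsProper f'] [IsSeparated g] [LocallyOfFiniteType g] [LocallyQuasiFinite g]
  [IsSeparated g'] [LocallyOfFiniteType g'] [LocallyQuasiFinite g']

include w in
theorem nonempty_degreeZero :
    Nonempty (EtCoh.push f' ⋙ EtShriek.lowerShriek g ≅ EtShriek.lowerShriek g' ⋙ EtCoh.push f) := by
  obtain ⟨a⟩ := nonempty_lowerShriek_iso_push f'
  obtain ⟨b⟩ := nonempty_lowerShriek_iso_push f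
  obtain ⟨c⟩ := Shriek.lowerShriek_comp f' g
  obtain ⟨d⟩ := Shriek.lowerShriek_comp g' f
  exact ⟨(Functor.isoWhiskerRight a.symm _) ≪≫ c.symm ≪≫ eqToIso (by rw [w]) ≪≫ d ≪≫ Functor.isoWhiskerLeft _ b⟩

/-- A torsion sheaf sits in a short exact sequence of torsion sheaves with acyclic middle term. -/
theorem exists_ses {A : Scheme.{u}} (F : EtCoh.Ab A) (hF : EtCoh.IsTorsion F) :
    ∃ S : ShortComplex (EtCoh.Ab A), S.ShortExact ∧ Nonempty (S.X₁ ≅ F) ∧ EtCoh.IsTorsion S.X₃ ∧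
      EtCoh.IsTorsion S.X₂ ∧ ∀ {B : Scheme.{u}} (p : A ⟶ B) [QuasiCompact p] [QuasiSeparated p] (q : ℕ),
        IsZero ((EtCoh.Rpush p (q + 1)).obj S.X₂) := by
  obtain ⟨a, ha⟩ := BcQCalc.exists_mono_tor Set.univ (GabberAffine.isLTorsion_univ hF)
  haveI := ha
  have hJ : EtCoh.IsTorsion (BcQCalc.tor Set.univ (Injective.under F)) :=
    GabberAffine.isTorsion_of_univ (BcQCalc.isLTorsion_tor Set.univ (Injective.under F))
  refine ⟨ShortComplex.mk a (cokernel.π a) (cokernel.condition a), { exact := ShortComplex.exact_cokernel a },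
    ⟨Iso.refl _⟩, AcycFin.SkyTorsion.isTorsion_of_epi (cokernel.π a) hJ, hJ, fun p _ _ q => ?_⟩
  exact BcQCalc.isZero_Rpush_tor Set.univ (Injective.under F) p q

include w in
/-- The comparison in every degree. -/
theorem nonempty_shriek_Rpush (q : ℕ) : ∀ (F : EtCoh.Ab X'), EtCoh.IsTorsion F →
    Nonempty ((EtShriek.lowerShriek g).obj ((EtCoh.Rpush f' q).obj F) ≅
      (EtCoh.Rpush f q).obj ((EtShriek.lowerShriek g').obj F)) := by
  haveI := (Shriek.lowerShriek_exact g).1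
  haveI := (Shriek.lowerShriek_exact g).2
  haveI := (Shriek.lowerShriek_exact g').1
  haveI := (Shriek.lowerShriek_exact g').2
  haveI : (EtShriek.lowerShriek g).Additive := Functor.additive_of_preserves_binary_products _
  haveI : (EtShriek.lowerShriek g').Additive := Functor.additive_of_preserves_binary_products _
  obtain ⟨φ⟩ := nonempty_degreeZero f g f' g' w
  induction q with
  | zero =>
    intro F _
    haveI : (EtCoh.push f).IsRightAdjoint := (EtCoh.pullPushAdj f).isRightAdjoint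
    haveI : (EtCoh.push f').IsRightAdjoint := (EtCoh.pullPushAdj f').isRightAdjoint
    exact ⟨(EtShriek.lowerShriek g).mapIso ((EtCoh.push f').rightDerivedZeroIsoSelf.app F) ≪≫ φ.app F ≪≫
      ((EtCoh.push f).rightDerivedZeroIsoSelf.app _).symm⟩
  | succ q ih =>
    intro F hF
    obtain ⟨S, hS, ⟨eF⟩, h3, h2, hK⟩ := exists_ses F hF
    let S' := S.map (EtShriek.lowerShriek g')
    have hS' : S'.ShortExact := hS.map_of_exact _
    have hK' : ∀ j : ℕ, IsZero ((EtCoh.Rpush f (j + 1)).obj S'.X₂) := fun j =>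
      isZero_Rpush_shriek_of_acyclic f g f' g' w S.X₂ h2 (fun i => hK f' i) j
    suffices h : Nonempty ((EtShriek.lowerShriek g).obj ((EtCoh.Rpush f' (q + 1)).obj S.X₁) ≅
        (EtCoh.Rpush f (q + 1)).obj S'.X₁) from
      ⟨(EtShriek.lowerShriek g).mapIso ((EtCoh.Rpush f' (q + 1)).mapIso eF.symm) ≪≫ h.some ≪≫
        (EtCoh.Rpush f (q + 1)).mapIso ((EtShriek.lowerShriek g').mapIso eF)⟩
    cases q with
    | zero =>
      obtain ⟨e⟩ := nonempty_one f' hS (hK f')
      obtain ⟨e'⟩ := nonempty_one f hS' hK'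
      exact ⟨(EtShriek.lowerShriek g).mapIso e ≪≫ PreservesCokernel.iso (EtShriek.lowerShriek g) _ ≪≫
        cokernel.mapIso _ _ (φ.app S.X₂) (φ.app S.X₃) (φ.hom.naturality S.g) ≪≫ e'.symm⟩
    | succ q =>
      obtain ⟨e⟩ := nonempty_shift f' hS (hK f') q
      obtain ⟨e'⟩ := nonempty_shift f hS' hK' q
      obtain ⟨i⟩ := ih S.X₃ h3
      exact ⟨(EtShriek.lowerShriek g).mapIso e ≪≫ i ≪≫ e'.symm⟩

end Groth.Agent.ShriekPush
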