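import Groth.Agent.Shriek.Compactify
import Groth.Agent.Shriek.LqfExact
import Groth.Agent.PBCThm.BC
import Groth.Agent.CurveCd.ClosedAcyclic
import Groth.Agent.CurveCd.TorsionCd
import Groth.Agent.EtCdp5.Main

/-!
# Direct images with proper support followed by proper direct images
-/

set_option autoImplicit false
set_option linter.style.haveILetI false
set_option linter.unusedSectionVars false
set_option backward.isDefEq.respectTransparency false
set_option backward.isDefEq.respectTransparency.types false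

universe u

open CategoryTheory CategoryTheory.Limits AlgebraicGeometry Opposite

noncomputable section

namespace Groth.Agent.ShriekPush

open EtFound

attribute [local instance] EtFound.pull_preservesFiniteLimits

variable {X Y Z : Scheme.{u}}

theorem isOfFinAddOrder_coprod {ι : Type u} (A : ι → AddCommGrpCat.{u + 1})
    (h : ∀ i (a : A i), IsOfFinAddOrder a) (t : (∐ A : AddCommGrpCat.{u + 1})) : IsOfFinAddOrder t := by
  let T : AddSubgroup (∐ A : AddCommGrpCat.{u + 1}) := AddCommGroup.torsion _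
  let q : (∐ A : AddCommGrpCat.{u + 1}) ⟶ AddCommGrpCat.of (_ ⧸ T) := AddCommGrpCat.ofHom (QuotientAddGroup.mk' T)
  have hq : q = 0 := Sigma.hom_ext _ _ fun i => by
    ext a
    exact (QuotientAddGroup.eq_zero_iff _).2 (AddMonoidHom.isOfFinAddOrder (Sigma.ι A i).hom (h i a))
  have : (QuotientAddGroup.mk' T) t = 0 := ConcreteCategory.congr_hom hq t
  exact (QuotientAddGroup.eq_zero_iff t).1 this

variable (f : X ⟶ Y) [IsSeparated f] [LocallyOfFiniteType f] [LocallyQuasiFinite f]

/-- a geometric point over an algebraically closed field refining a given one -/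
theorem exists_algClosed_refine {Ω : Type u} [Field Ω] [IsSepClosed Ω] (ξ : Spec (CommRingCat.of Ω) ⟶ Y)
    (G : EtCoh.Ab Y) : ∃ (L : Type u) (_ : Field L) (_ : IsAlgClosed L) (η : Spec (CommRingCat.of L) ⟶ Y),
      η.base (default : Spec (CommRingCat.of L)) = ξ.base (default : Spec (CommRingCat.of Ω)) ∧
      Nonempty ((EtCoh.stalk ξ).obj G ≅ (EtCoh.stalk η).obj G) := by
  let l : Spec (CommRingCat.of (AlgebraicClosure Ω)) ⟶ Spec (CommRingCat.of Ω) :=
    Spec.map (CommRingCat.ofHom (algebraMap Ω (AlgebraicClosure Ω)))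
  refine ⟨AlgebraicClosure Ω, inferInstance, inferInstance, l ≫ ξ, ?_, ⟨(stalkExtIso AddCommGrpCat.{u + 1} ξ l).app G⟩⟩
  rw [Scheme.Hom.comp_apply]
  exact congrArg ξ.base (Subsingleton.elim (α := PrimeSpectrum Ω) _ _)

theorem isTorsion_lowerShriek (F : EtCoh.Ab X) (hF : EtCoh.IsTorsion F) :
    EtCoh.IsTorsion ((EtShriek.lowerShriek f).obj F) := by
  rw [H9Transfer.isTorsion_iff_stalks] at hF ⊢
  intro Ω _ _ ξ t
  obtain ⟨L, _, _, η, -, ⟨e⟩⟩ := exists_algClosed_refine ξ ((EtShriek.lowerShriek f).obj F)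
  obtain ⟨c⟩ := Shriek.stalk_coprod f η F
  let g := (e ≪≫ c).addCommGroupIsoToAddEquiv
  have h := AddMonoidHom.isOfFinAddOrder g.symm.toAddMonoidHom
    (isOfFinAddOrder_coprod _ (fun z a => hF L z.1 a) (g t))
  simpa using h

theorem mem_range_of_mem_supp (F : EtCoh.Ab X) {y : Y} (hy : y ∈ EtPBC.supp ((EtShriek.lowerShriek f).obj F)) :
    y ∈ Set.range f.base := by
  obtain ⟨Ω, _, _, ξ, hr, hne⟩ := hy
  by_contra h
  obtain ⟨L, _, _, η, hη, ⟨e⟩⟩ := exists_algClosed_refine ξ ((EtShriek.lowerShriek f).obj F)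
  obtain ⟨c⟩ := Shriek.stalk_coprod f η F
  haveI : IsEmpty {z : Spec (CommRingCat.of L) ⟶ X // z ≫ f = η} := ⟨fun z => h (by
    have h1 : η.base (default : Spec (CommRingCat.of L)) ∈ Set.range f.base := by
      rw [← z.2, Scheme.Hom.comp_apply]
      exact Set.mem_range_self _
    have h2 : ξ.base (default : Spec (CommRingCat.of Ω)) ∈ ({y} : Set Y) := hr ▸ Set.mem_range_self _
    rwa [hη, Set.mem_singleton_iff.1 h2] at h1)⟩
  refine hne (IsZero.of_iso ?_ (e ≪≫ c))
  exact (IsZero.iff_id_eq_zero _).2 (Sigma.hom_ext _ _ fun z => isEmptyElim z)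

theorem nonempty_lowerShriek_iso_push (h : Y ⟶ Z) [IsProper h] :
    Nonempty (EtShriek.lowerShriek h ≅ EtCoh.push h) := by
  haveI := Shriek.isIso_shriekToPush h
  exact ⟨Shriek.shriekIso h ≪≫ asIso (Shriek.shriekToPush h)⟩

theorem isZero_Rpush_lowerShriek (h : Y ⟶ Z) [IsProper h] [LocallyQuasiFinite (f ≫ h)] [LocallyOfFiniteType (f ≫ h)]
    (F : EtCoh.Ab X) (hF : EtCoh.IsTorsion F) (q : ℕ) (hq : 0 < q) :
    IsZero ((EtCoh.Rpush h q).obj ((EtShriek.lowerShriek f).obj F)) := by
  refine (EtFound.isZero_iff_stalks _).2 fun Ω _ _ ξ => ?_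
  let G := (EtShriek.lowerShriek f).obj F
  obtain ⟨e⟩ := PBCThm.nonempty_stalk_Rpush h ξ G (isTorsion_lowerShriek f F hF) q
  let P := pullback h ξ
  let a : P ⟶ Y := pullback.fst h ξ
  let b : P ⟶ Spec (CommRingCat.of Ω) := pullback.snd h ξ
  haveI : IsProper b := inferInstanceAs (IsProper (pullback.snd h ξ))
  haveI : IsLocallyNoetherian P := LocallyOfFiniteType.isLocallyNoetherian b
  haveI : CompactSpace P := QuasiCompact.compactSpace_of_compactSpace b
  haveI : IsNoetherian P := {}
  haveI : JacobsonSpace P := LocallyOfFiniteType.jacobsonSpace b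
  obtain ⟨m, rfl⟩ : ∃ m, q = m + 1 := ⟨q - 1, by omega⟩
  suffices hH : Subsingleton (EtCoh.H P ((EtCoh.pull a).obj G) (m + 1)) from
    IsZero.of_iso (@AddCommGrpCat.isZero_of_subsingleton _ hH) e
  refine CurveCd.ClosedAcyclic.subsingleton_H _ (fun x hx => CurveCd.isSepClosed_residueField_of_isClosed Ω b hx)
    (fun z hz => ?_) m
  obtain ⟨L, _, _, ζ, hr, hne⟩ := hz
  have hζ : ζ.base (default : Spec (CommRingCat.of L)) = z :=
    Set.mem_singleton_iff.1 (hr ▸ Set.mem_range_self _)
  have hsupp : a z ∈ EtPBC.supp G := by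
    refine ⟨L, inferInstance, inferInstance, ζ ≫ a, ?_, fun h0 => hne (IsZero.of_iso h0 ((stalkPullIso a ζ).app G))⟩
    rw [range_point, Scheme.Hom.comp_apply, hζ]
  obtain ⟨x, hx⟩ := mem_range_of_mem_supp f F hsupp
  obtain ⟨w, -, hw⟩ := Scheme.Pullback.exists_preimage_pullback (f := f) (g := a) x z hx
  let a' : pullback f a ⟶ P := pullback.snd f a
  have c : IsPullback (pullback.fst f a) (a' ≫ b) (f ≫ h) ξ :=
    (IsPullback.of_hasPullback f a).paste_vert (IsPullback.of_hasPullback h ξ)
  haveI : LocallyQuasiFinite (a' ≫ b) := MorphismProperty.of_isPullback (P := @LocallyQuasiFinite) c ‹_›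
  haveI : LocallyOfFiniteType a' := inferInstanceAs (LocallyOfFiniteType (pullback.snd f a))
  have hwc : IsClosed ({w} : Set ↥(pullback f a)) := by
    haveI : Subsingleton (Spec (CommRingCat.of Ω)) := inferInstanceAs (Subsingleton (PrimeSpectrum Ω))
    have hd := (a' ≫ b).isDiscrete_preimage_singleton (default : Spec (CommRingCat.of Ω))
    have e1 : (a' ≫ b).base ⁻¹' {(default : Spec (CommRingCat.of Ω))} = Set.univ :=
      Set.eq_univ_of_forall fun v => Subsingleton.elim _ _
    rw [e1] at hd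
    haveI : DiscreteTopology ↥(pullback f a) := by
      rw [isDiscrete_iff_discreteTopology] at hd
      exact (Homeomorph.Set.univ _).symm.isEmbedding.discreteTopology
    exact isClosed_discrete _
  rw [← hw]
  exact a'.closePoints_subset_preimage_closedPoints hwc

end Groth.Agent.ShriekPush

end
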