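import Groth.Agent.EtLC12.QcqsAcyclic
import Groth.Agent.EtFound.AbRecollement
import Groth.Agent.EtLC12.AffineLocalAcyclic
import Groth.Agent.EtFound.JContGen
import Mathlib.CategoryTheory.Limits.Constructions.Filtered

/-!
# Cohomology of direct sums, decomposition over a discrete space
-/

set_option autoImplicit false
set_option linter.style.haveILetI false
set_option linter.unusedSectionVars false
set_option backward.isDefEq.respectTransparency false
set_option backward.isDefEq.respectTransparency.types false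

universe u

open CategoryTheory CategoryTheory.Limits AlgebraicGeometry Opposite Abelian CoproductsFromFiniteFiltered

noncomputable section

namespace Groth.Agent.ShriekPush

variable {X : Scheme.{u}}

theorem subsingleton_H_sum_fintype {ι : Type (u + 1)} [Fintype ι] (A : ι → EtCoh.Ab X) (q : ℕ)
    (h : ∀ i, Subsingleton (EtCoh.H X (A i) q)) : Subsingleton (EtCoh.H X (∐ A) q) := by
  refine subsingleton_of_forall_eq 0 fun x => ?_
  let m : EtCoh.H X (⨁ A) q := x.comp (Ext.mk₀ (biproduct.isoCoproduct A).inv) (add_zero q)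
  have hm : m = 0 := by
    rw [← Ext.comp_mk₀_id m, ← IsBilimit.total (biproduct.isBilimit A), Ext.mk₀_sum, Ext.comp_sum]
    refine Finset.sum_eq_zero fun i _ => ?_
    rw [← Ext.mk₀_comp_mk₀, ← Ext.comp_assoc_of_third_deg_zero]
    haveI := h i
    rw [Subsingleton.elim (m.comp (Ext.mk₀ (biproduct.π A i)) (add_zero q)) 0, Ext.zero_comp]
  have e : x = m.comp (Ext.mk₀ (biproduct.isoCoproduct A).hom) (add_zero q) := by
    simp only [m, Ext.comp_assoc_of_third_deg_zero, Ext.mk₀_comp_mk₀, Iso.inv_hom_id, Ext.comp_mk₀_id]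
  rw [e, hm, Ext.zero_comp]

/-- Cohomology of a qcqs scheme with values in a direct sum of acyclic sheaves. -/
theorem subsingleton_H_sum [CompactSpace X] [QuasiSeparatedSpace X] {ι : Type (u + 1)} (A : ι → EtCoh.Ab X) (q : ℕ)
    (h : ∀ i, Subsingleton (EtCoh.H X (A i) q)) : Subsingleton (EtCoh.H X (∐ A) q) := by
  classical
  haveI := EtLC12.QcqsAcyclic.preservesColimitsOfShape_HF X q (Finset (Discrete ι))
  let hc := isColimitOfPreserves (EtCoh.HF X q) (isColimitFiniteSubproductsCocone A)
  refine subsingleton_of_forall_eq 0 fun x => ?_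
  obtain ⟨S, y, rfl⟩ := Concrete.isColimit_exists_rep _ hc x
  haveI : Subsingleton (EtCoh.H X ((liftToFinsetObj (Discrete.functor A)).obj S) q) :=
    subsingleton_H_sum_fintype (fun s : S => A s.1.as) q fun s => h _
  rw [show y = 0 from Subsingleton.elim (α := EtCoh.H X ((liftToFinsetObj (Discrete.functor A)).obj S) q) y 0]
  exact map_zero _

theorem isIso_ι_of_isZero {C : Type*} [Category C] [HasZeroMorphisms C] {ι : Type*} (A : ι → C) [HasCoproduct A]
    (i₀ : ι) (h : ∀ i, i ≠ i₀ → IsZero (A i)) : IsIso (Sigma.ι A i₀) := by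
  classical
  refine ⟨Sigma.desc fun i => if e : i = i₀ then eqToHom (by rw [e]) else 0, by simp, ?_⟩
  refine Sigma.hom_ext _ _ fun i => ?_
  by_cases e : i = i₀
  · subst e; simp
  · exact (h i e).eq_of_src _ _

section Discrete

variable {D : Scheme.{u}} [DiscreteTopology D] (p : X ⟶ D)

/-- The piece over a point. -/
def piece (y : D) : X.Opens := p ⁻¹ᵁ ⟨{y}, isOpen_discrete _⟩

theorem mem_piece {x : X} {y : D} : x ∈ piece p y ↔ p.base x = y := Iff.rfl

variable (M : EtCoh.Ab X)

/-- The restriction to a piece, extended by zero. -/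
def pieceSheaf (y : ULift.{u + 1} D) : EtCoh.Ab X :=
  haveI := EtFound.jCont (piece p y.down).ι
  (EtShriek.extZero (piece p y.down).ι).obj ((EtShriek.restrAlong (piece p y.down).ι).obj M)

/-- The map from the sum of the pieces. -/
def sumPieces : ∐ pieceSheaf p M ⟶ M :=
  Sigma.desc fun y =>
    haveI := EtFound.jCont (piece p y.down).ι
    (EtShriek.extZeroAdj (piece p y.down).ι).counit.app M

theorem isIso_sumPieces : IsIso (sumPieces p M) := by
  refine EtFound.isIso_of_stalks (A := AddCommGrpCat.{u + 1}) _ fun Ω _ _ ξ => ?_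
  refine (ConcreteCategory.isIso_iff_bijective ((EtCoh.stalk ξ).map (sumPieces p M))).1 ?_
  let x := ξ.base (default : Spec (CommRingCat.of Ω))
  let y₀ : ULift.{u + 1} D := ⟨p.base x⟩
  let G := fun y => (EtCoh.stalk ξ).obj (pieceSheaf p M y)
  haveI : PreservesColimit (Discrete.functor (pieceSheaf p M)) (EtCoh.stalk ξ) := inferInstance
  haveI : IsIso (Sigma.ι G y₀) := isIso_ι_of_isZero G y₀ fun y hy => by
    haveI := EtFound.jCont (piece p y.down).ι
    refine EtFound.isZero_stalk_extZero (piece p y.down).ι ξ (fun h => hy ?_) _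
    rw [Scheme.Opens.range_ι] at h
    exact ULift.down_injective ((mem_piece p).1 h).symm
  haveI : IsIso ((EtCoh.stalk ξ).map (Sigma.ι (pieceSheaf p M) y₀)) := by
    rw [← ι_comp_sigmaComparison (EtCoh.stalk ξ) (pieceSheaf p M) y₀]
    infer_instance
  haveI := EtFound.jCont (piece p y₀.down).ι
  haveI : IsIso ((EtCoh.stalk ξ).map ((EtShriek.extZeroAdj (piece p y₀.down).ι).counit.app M)) := by
    refine EtFound.isIso_stalk_of_lift (piece p y₀.down).ι _ ξ ?_ fun k _ _ z =>
      EtFound.isIso_counit_stalk (piece p y₀.down).ι z M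
    rw [Scheme.Opens.range_ι]
    exact (mem_piece p).2 rfl
  have e : (EtCoh.stalk ξ).map (Sigma.ι (pieceSheaf p M) y₀) ≫ (EtCoh.stalk ξ).map (sumPieces p M) =
      (EtCoh.stalk ξ).map ((EtShriek.extZeroAdj (piece p y₀.down).ι).counit.app M) := by
    rw [← Functor.map_comp, sumPieces, Sigma.ι_desc]
  exact IsIso.of_isIso_fac_left e

end Discrete

end Groth.Agent.ShriekPush
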