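import Groth.Agent.ShriekPush.Coprod
import Groth.Agent.ShriekPush.Basic
import Groth.Agent.BlowUpMV.Modif
import Groth.Agent.PBCThm.FibreAcyclic
import Groth.Agent.Shriek.Etale
import Groth.Agent.Shriek.Comp
import Groth.Agent.CurveCd.ClosedAcyclic
import Mathlib.AlgebraicGeometry.ZariskisMainTheorem
import Mathlib.AlgebraicGeometry.Artinian

/-!
# Direct images with proper support along a quasi-finite map between proper schemes over a separably closed field
-/

set_option autoImplicit false
set_option linter.style.haveILetI false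
set_option linter.unusedSectionVars false
set_option backward.isDefEq.respectTransparency false
set_option backward.isDefEq.respectTransparency.types false

universe u

open CategoryTheory CategoryTheory.Limits AlgebraicGeometry Opposite

noncomputable section

namespace Groth.Agent.ShriekPush

attribute [local instance] EtFound.pull_preservesFiniteLimits

open ClosedAffAcyc PBCThm

theorem discreteTopology_of_lqf {Ω : Type u} [Field Ω] {Q : Scheme.{u}} (b : Q ⟶ Spec (CommRingCat.of Ω))
    [LocallyQuasiFinite b] : DiscreteTopology ↥Q := by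
  haveI : Subsingleton (Spec (CommRingCat.of Ω)) := inferInstanceAs (Subsingleton (PrimeSpectrum Ω))
  have hd := b.isDiscrete_preimage_singleton (default : Spec (CommRingCat.of Ω))
  have e : b.base ⁻¹' {(default : Spec (CommRingCat.of Ω))} = Set.univ :=
    Set.eq_univ_of_forall fun v => Subsingleton.elim _ _
  rw [e, isDiscrete_iff_discreteTopology] at hd
  exact (Homeomorph.Set.univ _).symm.isEmbedding.discreteTopology

variable {Ω : Type u} [Field Ω] [IsSepClosed Ω] {P Q X₀ : Scheme.{u}} (a : X₀ ⟶ Spec (CommRingCat.of Ω)) [IsProper a]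
  (p : P ⟶ Q) [IsProper p] (b : Q ⟶ Spec (CommRingCat.of Ω)) [IsSeparated b] [LocallyOfFiniteType b]
  [LocallyQuasiFinite b] (c : P ⟶ X₀) [IsSeparated c] [LocallyOfFiniteType c] [LocallyQuasiFinite c]
  (w : c ≫ a = p ≫ b) (M : EtCoh.Ab P) (q : ℕ)
  (hM : ∀ (L : Type u) [Field L] [IsSepClosed L] (η : Spec (CommRingCat.of L) ⟶ Q),
    Subsingleton (EtCoh.H (pullback p η) ((EtCoh.pull (pullback.fst p η)).obj M) q))

include b hM in
theorem subsingleton_H_piece [DiscreteTopology ↥Q] (y : Q) :
    Subsingleton (EtCoh.H (piece p y).toScheme ((EtCoh.pull (piece p y).ι).obj M) q) := by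
  let O : Q.Opens := ⟨{y}, isOpen_discrete _⟩
  let z : O.toScheme := ⟨y, rfl⟩
  haveI : Subsingleton O.toScheme := ⟨fun s t => Subtype.ext (s.2.trans t.2.symm)⟩
  haveI : LocallyOfFiniteType (O.ι ≫ b) := inferInstance
  haveI hsep : IsSepClosed (O.toScheme.residueField z) :=
    CurveCd.isSepClosed_residueField_of_isClosed Ω (O.ι ≫ b)
      (show IsClosed ({z} : Set O.toScheme) from (Set.subsingleton_singleton.isClosed))
  let σ := O.toScheme.fromSpecResidueField z
  haveI : Surjective σ := ⟨fun v => ⟨default, Subsingleton.elim _ _⟩⟩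
  haveI : IsClosedImmersion σ := IsClosedImmersion.of_isPreimmersion σ (by
    rw [Scheme.range_fromSpecResidueField]; exact Set.subsingleton_singleton.isClosed)
  let e := pullback.fst (p ∣_ O) σ
  let N := (EtCoh.pull (p ⁻¹ᵁ O).ι).obj M
  have hb : Function.Bijective (EtCore.Hpull e N q) :=
    BlowUpMV.bijective_Hpull_closed e N (fun K _ _ ξ h => (h (e.surjective _)).elim) q
  suffices h : Subsingleton (EtCoh.H (pullback (p ∣_ O) σ) ((EtCoh.pull e).obj N) q) from hb.1.subsingleton
  refine (subsingleton_pull_pull e (p ⁻¹ᵁ O).ι _ rfl M q).2 ?_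
  exact subsingleton_of_isPullback
    ((IsPullback.of_hasPullback (p ∣_ O) σ).paste_horiz (isPullback_morphismRestrict p O).flip) M q
    (@hM (O.toScheme.residueField z) _ hsep (σ ≫ O.ι))

include a b w hM in
theorem subsingleton_H_lowerShriek :
    Subsingleton (EtCoh.H X₀ ((EtShriek.lowerShriek c).obj M) q) := by
  haveI : DiscreteTopology ↥Q := discreteTopology_of_lqf b
  haveI : CompactSpace X₀ := QuasiCompact.compactSpace_of_compactSpace a
  haveI : QuasiSeparatedSpace X₀ := quasiSeparatedSpace_of_quasiSeparated a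
  haveI := isIso_sumPieces p M
  haveI := Shriek.shriek_preservesCoproducts c (ULift.{u + 1} Q)
  haveI : PreservesColimitsOfShape (Discrete (ULift.{u + 1} Q)) (EtShriek.lowerShriek c) :=
    preservesColimitsOfShape_of_natIso (Shriek.shriekIso c).symm
  let A := fun y => (EtShriek.lowerShriek c).obj (pieceSheaf p M y)
  let eA : (∐ A) ≅ (EtShriek.lowerShriek c).obj M :=
    (PreservesCoproduct.iso (EtShriek.lowerShriek c) (pieceSheaf p M)).symm ≪≫
      (EtShriek.lowerShriek c).mapIso (asIso (sumPieces p M))
  refine subsingleton_congr eA q (subsingleton_H_sum A q fun y => ?_)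
  let U := piece p y.down
  haveI := EtFound.jCont U.ι
  let O : Q.Opens := ⟨{y.down}, isOpen_discrete _⟩
  haveI : Subsingleton O.toScheme := ⟨fun s t => Subtype.ext (s.2.trans t.2.symm)⟩
  haveI : CompactSpace O.toScheme := Subsingleton.compactSpace
  haveI : QuasiCompact (O.ι ≫ b) := (HasAffineProperty.iff_of_isAffine (P := @QuasiCompact)).2 inferInstance
  haveI : IsFinite (O.ι ≫ b) := IsFinite.of_locallyQuasiFinite _
  haveI : IsProper (p ∣_ O) :=
    MorphismProperty.of_isPullback (P := @IsProper) (isPullback_morphismRestrict p O).flip ‹_›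
  let d : U.toScheme ⟶ X₀ := U.ι ≫ c
  haveI : IsProper (d ≫ a) := by
    rw [show d ≫ a = (p ∣_ O) ≫ O.ι ≫ b by
      rw [morphismRestrict_ι_assoc, Category.assoc, w]; rfl]
    infer_instance
  haveI : IsProper d := IsProper.of_comp d a
  haveI : IsFinite d := IsFinite.of_isProper_of_locallyQuasiFinite d
  obtain ⟨e₁⟩ := Shriek.lowerShriek_comp U.ι c
  obtain ⟨e₂⟩ := nonempty_lowerShriek_iso_push d
  let N := (EtShriek.restrAlong U.ι).obj M
  let eN : (EtCoh.push d).obj N ≅ A y :=
    ((EtShriek.lowerShriek c).mapIso ((Shriek.extZeroIso U.ι).app N) ≪≫ (e₁.app N).symm ≪≫ e₂.app N).symm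
  have hN : Subsingleton (EtCoh.H U.toScheme N q) :=
    subsingleton_congr ((EtLC12.AffineLocalAcyclic.restrIsoPull U.ι).app M).symm q
      (subsingleton_H_piece p b M q hM y.down)
  refine subsingleton_congr eN q ?_
  exact (EtAcycLib.UnitRpush.HofPush_bijective d q N fun j _ => S3054.result d N (j + 1) (Nat.succ_pos j)).1.subsingleton

end Groth.Agent.ShriekPush
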