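import Groth.Agent.ShriekPush.Fibre
import Groth.Agent.BcQCalc.TorsionEmbed
import Groth.Agent.GabberAffine.Main
import Groth.Agent.SiteBase.DerivedComp
import Groth.Agent.Shriek.BaseChange

/-!
# Proper support and proper push forward in a commutative square
-/

set_option autoImplicit false
set_option linter.style.haveILetI false
set_option linter.unusedSectionVars false
set_option backward.isDefEq.respectTransparency false
set_option backward.isDefEq.respectTransparency.types false

universe u

open CategoryTheory CategoryTheory.Limits AlgebraicGeometry Opposite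

noncomputable section

namespace Groth.Agent.ShriekPush

attribute [local instance] EtFound.pull_preservesFiniteLimits

open ClosedAffAcyc PBCThm

variable {X Y X' Y' : Scheme.{u}} (f : X ⟶ Y) (g : Y' ⟶ Y) (f' : X' ⟶ Y') (g' : X' ⟶ X) (w : g' ≫ f = f' ≫ g)
  [IsProper f] [IsProper f'] [IsSeparated g] [LocallyOfFiniteType g] [LocallyQuasiFinite g]
  [IsSeparated g'] [LocallyOfFiniteType g'] [LocallyQuasiFinite g']

include w in
/-- Sheaves acyclic for the upper map give sheaves acyclic for the lower one. -/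
theorem isZero_Rpush_shriek_of_acyclic (J : EtCoh.Ab X') (hJ : EtCoh.IsTorsion J)
    (hR : ∀ q : ℕ, IsZero ((EtCoh.Rpush f' (q + 1)).obj J)) (q : ℕ) :
    IsZero ((EtCoh.Rpush f (q + 1)).obj ((EtShriek.lowerShriek g').obj J)) := by
  refine (EtFound.isZero_iff_stalks _).2 fun Ω₀ _ _ ξ₀ => ?_
  obtain ⟨Ω, _, _, ξ, -, ⟨e₀⟩⟩ := exists_algClosed_refine ξ₀ ((EtCoh.Rpush f (q + 1)).obj ((EtShriek.lowerShriek g').obj J))
  refine IsZero.of_iso ?_ e₀
  obtain ⟨e⟩ := PBCThm.nonempty_stalk_Rpush f ξ _ (isTorsion_lowerShriek g' J hJ) (q + 1)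
  refine IsZero.of_iso (@AddCommGrpCat.isZero_of_subsingleton _ ?_) e
  let a := pullback.snd f ξ
  let b := pullback.snd g ξ
  haveI : IsProper a := inferInstanceAs (IsProper (pullback.snd f ξ))
  have hT := IsPullback.of_hasPullback (g' ≫ f) ξ
  let c : pullback (g' ≫ f) ξ ⟶ pullback f ξ :=
    pullback.lift (pullback.fst (g' ≫ f) ξ ≫ g') (pullback.snd (g' ≫ f) ξ) (by rw [Category.assoc, pullback.condition])
  let p : pullback (g' ≫ f) ξ ⟶ pullback g ξ :=
    pullback.lift (pullback.fst (g' ≫ f) ξ ≫ f') (pullback.snd (g' ≫ f) ξ)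
      (by rw [Category.assoc, ← w, pullback.condition])
  have hc : IsPullback (pullback.fst (g' ≫ f) ξ) c g' (pullback.fst f ξ) :=
    IsPullback.of_bot (by rw [pullback.lift_snd]; exact hT) (pullback.lift_fst _ _ _).symm
      (IsPullback.of_hasPullback f ξ)
  have hp : IsPullback (pullback.fst (g' ≫ f) ξ) p f' (pullback.fst g ξ) :=
    IsPullback.of_bot (by rw [pullback.lift_snd, ← w]; exact hT) (pullback.lift_fst _ _ _).symm
      (IsPullback.of_hasPullback g ξ)
  haveI : IsProper p := MorphismProperty.of_isPullback (P := @IsProper) hp ‹_›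
  haveI : IsSeparated c := MorphismProperty.of_isPullback (P := @IsSeparated) hc ‹_›
  haveI : LocallyOfFiniteType c := MorphismProperty.of_isPullback (P := @LocallyOfFiniteType) hc ‹_›
  haveI : LocallyQuasiFinite c := MorphismProperty.of_isPullback (P := @LocallyQuasiFinite) hc ‹_›
  haveI : LocallyQuasiFinite b :=
    MorphismProperty.of_isPullback (P := @LocallyQuasiFinite) (IsPullback.of_hasPullback g ξ) ‹_›
  have h := subsingleton_H_lowerShriek a p b c ((pullback.lift_snd _ _ _).trans (pullback.lift_snd _ _ _).symm)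
    ((EtCoh.pull (pullback.fst (g' ≫ f) ξ)).obj J) (q + 1) fun L _ _ η => by
      have c2 := (IsPullback.of_hasPullback p η).paste_horiz hp
      refine (subsingleton_pull_pull _ _ _ rfl J (q + 1)).2 (subsingleton_of_isPullback c2 J (q + 1) ?_)
      obtain ⟨e'⟩ := PBCThm.nonempty_stalk_Rpush f' (η ≫ pullback.fst g ξ) J hJ (q + 1)
      exact AddCommGrpCat.subsingleton_of_isZero (IsZero.of_iso
        ((EtFound.isZero_iff_stalks _).1 (hR q) L (η ≫ pullback.fst g ξ)) e'.symm)
  obtain ⟨eb⟩ := Shriek.lowerShriek_baseChange (f := g') (g := pullback.fst f ξ)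
    (g' := pullback.fst (g' ≫ f) ξ) (f' := c) hc J
  exact subsingleton_congr eb (q + 1) h

end Groth.Agent.ShriekPush
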